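import Mathlib

/-!
# A linear-algebra lemma for lifting along square-zero extensions with kernel killed by a
maximal ideal

`P → A` a ring map, `N ⊆ A` an ideal of square zero killed by a maximal ideal `𝔞 ⊇ N` of `A`,
with `P → A/𝔞` surjective.  Let `I ⊆ P` be an ideal mapping into `N`.  If every `y ∈ I` whose
differential dies in `(A/𝔞) ⊗_P Ω_{P/R}` maps to zero in `A`, then there is an `R`-derivation
`D : P → N` with `D x = - x` on `I` (so that `x ↦ x + D x` kills `I`).
-/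

namespace Groth.Agent.H46.IndFS

open TensorProduct KaehlerDifferential

section LemmaL

variable {R P A : Type*} [CommRing R] [CommRing P] [CommRing A] [Algebra R P] [Algebra R A]
  [Algebra P A] [IsScalarTower R P A]

/-- Over a field, a linear map factors through another one as soon as the kernels are nested. -/
theorem exists_comp_eq_of_ker_le {K F V W : Type*} [Field K] [AddCommGroup F] [Module K F]
    [AddCommGroup V] [Module K V] [AddCommGroup W] [Module K W] (f : F →ₗ[K] V) (g : F →ₗ[K] W)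
    (h : LinearMap.ker f ≤ LinearMap.ker g) : ∃ l : V →ₗ[K] W, l ∘ₗ f = g := by
  set f' : (F ⧸ LinearMap.ker f) →ₗ[K] V := (LinearMap.ker f).liftQ f le_rfl with hf'
  have hinj : LinearMap.ker f' = ⊥ := Submodule.ker_liftQ_eq_bot _ _ _ le_rfl
  obtain ⟨r, hr⟩ := f'.exists_leftInverse_of_injective hinj
  refine ⟨((LinearMap.ker f).liftQ g h) ∘ₗ r, ?_⟩
  ext x
  have h1 : r (f x) = Submodule.Quotient.mk x := by
    have : f x = f' (Submodule.Quotient.mk x) := by simp [hf']
    rw [this]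
    exact congrArg (fun t : (F ⧸ LinearMap.ker f) →ₗ[K] (F ⧸ LinearMap.ker f) =>
      t (Submodule.Quotient.mk x)) hr
  simp [h1]

theorem lemmaL (N 𝔞 : Ideal A) [h𝔞 : 𝔞.IsMaximal] (hN𝔞 : N ≤ 𝔞)
    (htors : ∀ a ∈ 𝔞, ∀ n ∈ N, a * n = 0)
    (hsurj : Function.Surjective (algebraMap P (A ⧸ 𝔞)))
    (I : Ideal P) (hIN : ∀ x ∈ I, algebraMap P A x ∈ N)
    (hC : ∀ y ∈ I, (∀ D' : Derivation R P N, D' y = 0) → algebraMap P A y = 0) :
    ∃ D : Derivation R P N, ∀ x ∈ I, ((D x : N) : A) = - algebraMap P A x := by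
  classical
  have hT : Module.IsTorsionBySet A N (𝔞 : Set A) := by
    intro n a
    apply Subtype.ext
    exact htors a a.2 n n.2
  let _ : Field (A ⧸ 𝔞) := Ideal.Quotient.field 𝔞
  let _ : Module (A ⧸ 𝔞) N := hT.module
  have hmk : ∀ (a : A) (n : N), (Ideal.Quotient.mk 𝔞 a) • n = a • n := fun a n => hT.mk_smul a n
  have hPK : ∀ f : P, algebraMap P (A ⧸ 𝔞) f = Ideal.Quotient.mk 𝔞 (algebraMap P A f) := fun f => rfl
  have hI0 : ∀ x ∈ I, algebraMap P (A ⧸ 𝔞) x = 0 := by
    intro x hx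
    rw [hPK, Ideal.Quotient.eq_zero_iff_mem]
    exact hN𝔞 (hIN x hx)
  -- the two linear maps
  let v : I → (A ⧸ 𝔞) ⊗[P] Ω[P⁄R] := fun x => (1 : A ⧸ 𝔞) ⊗ₜ[P] KaehlerDifferential.D R P (x : P)
  let w : I → N := fun x => ⟨- algebraMap P A (x : P), N.neg_mem (hIN x x.2)⟩
  let Dh : (I →₀ (A ⧸ 𝔞)) →ₗ[A ⧸ 𝔞] (A ⧸ 𝔞) ⊗[P] Ω[P⁄R] := Finsupp.linearCombination (A ⧸ 𝔞) v
  let Gh : (I →₀ (A ⧸ 𝔞)) →ₗ[A ⧸ 𝔞] N := Finsupp.linearCombination (A ⧸ 𝔞) w
  have hker : LinearMap.ker Dh ≤ LinearMap.ker Gh := by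
    intro c hc
    rw [LinearMap.mem_ker] at hc ⊢
    choose f hf using hsurj
    set y : P := ∑ x ∈ c.support, f (c x) * (x : P) with hy
    have hyI : y ∈ I := Ideal.sum_mem _ fun x _ => Ideal.mul_mem_left _ _ x.2
    have h1 : (1 : A ⧸ 𝔞) ⊗ₜ[P] KaehlerDifferential.D R P y = Dh c := by
      rw [hy, map_sum, tmul_sum]
      change _ = Finsupp.linearCombination (A ⧸ 𝔞) v c
      rw [Finsupp.linearCombination_apply, Finsupp.sum]
      refine Finset.sum_congr rfl fun x _ => ?_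
      rw [Derivation.leibniz, tmul_add, ← smul_tmul, ← smul_tmul, Algebra.smul_def,
        Algebra.smul_def, mul_one, mul_one, hI0 x x.2, zero_tmul, hf, add_zero]
      change _ = c x • ((1 : A ⧸ 𝔞) ⊗ₜ[P] KaehlerDifferential.D R P (x : P))
      rw [smul_tmul', smul_eq_mul, mul_one]
    have h1' : ∀ D' : Derivation R P N, D' y = 0 := by
      intro D'
      have : IsScalarTower P (A ⧸ 𝔞) N := hT.isScalarTower
      have e1 : D' y = D'.liftKaehlerDifferential (KaehlerDifferential.D R P y) :=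
        (Derivation.liftKaehlerDifferential_comp_D D' y).symm
      have e2 : D'.liftKaehlerDifferential (KaehlerDifferential.D R P y) =
          (D'.liftKaehlerDifferential.liftBaseChange (A ⧸ 𝔞))
            ((1 : A ⧸ 𝔞) ⊗ₜ[P] KaehlerDifferential.D R P y) := by
        rw [LinearMap.liftBaseChange_tmul, one_smul]
      rw [e1, e2, h1.trans hc, map_zero]
    have h2 := hC y hyI h1'
    apply Subtype.ext
    change ((Finsupp.linearCombination (A ⧸ 𝔞) w c : N) : A) = 0
    rw [Finsupp.linearCombination_apply, Finsupp.sum]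
    have h3 : ∀ x ∈ c.support, ((c x • w x : N) : A) = - algebraMap P A (f (c x) * (x : P)) := by
      intro x _
      have hb := hf (c x)
      generalize f (c x) = b at hb ⊢
      rw [← hb, hPK, hmk]
      change algebraMap P A b * (- algebraMap P A (x : P)) = _
      rw [map_mul]; ring
    rw [Submodule.coe_sum, Finset.sum_congr rfl h3, Finset.sum_neg_distrib, ← map_sum, ← hy, h2,
      neg_zero]
  obtain ⟨h, hh⟩ := exists_comp_eq_of_ker_le Dh Gh hker
  -- the `P`-linear map `Ω → N`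
  let l : Ω[P⁄R] →ₗ[P] N :=
    { toFun := fun ω => h ((1 : A ⧸ 𝔞) ⊗ₜ[P] ω)
      map_add' := fun a b => by rw [tmul_add, map_add]
      map_smul' := fun f ω => by
        rw [RingHom.id_apply, ← smul_tmul, Algebra.smul_def, mul_one]
        have : (algebraMap P (A ⧸ 𝔞) f) ⊗ₜ[P] ω = (algebraMap P (A ⧸ 𝔞) f) • ((1 : A ⧸ 𝔞) ⊗ₜ[P] ω) := by
          rw [smul_tmul', smul_eq_mul, mul_one]
        rw [this, map_smul, hPK, hmk]
        exact algebraMap_smul A f _ }
  refine ⟨l.compDer (KaehlerDifferential.D R P), ?_⟩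
  intro x hx
  change ((h ((1 : A ⧸ 𝔞) ⊗ₜ[P] KaehlerDifferential.D R P x) : N) : A) = _
  have h4 : h ((1 : A ⧸ 𝔞) ⊗ₜ[P] KaehlerDifferential.D R P x) = Gh (Finsupp.single ⟨x, hx⟩ 1) := by
    rw [← hh]
    change _ = h (Finsupp.linearCombination (A ⧸ 𝔞) v (Finsupp.single ⟨x, hx⟩ 1))
    rw [Finsupp.linearCombination_single, one_smul]
  rw [h4]
  change ((Finsupp.linearCombination (A ⧸ 𝔞) w (Finsupp.single ⟨x, hx⟩ 1) : N) : A) = _
  rw [Finsupp.linearCombination_single, one_smul]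

end LemmaL

end Groth.Agent.H46.IndFS
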