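import Mathlib
import Groth.Agent.H46.AdicSmoothSmallExt
import Groth.Agent.H46.IndFS.LinAlg

/-!
# Ind-formally-smooth algebras are adically formally smooth at maximal ideals

`IndFS R S`: every polynomial relation among elements of `S` already holds in a formally smooth
`R`-algebra mapping to `S` (a weak elementwise form of "filtered colimit of smooth algebras").
Main result `isAdicFormallySmooth_of_indFS`: such an `S` is formally smooth over `R` for the
`𝔫`-adic topology, for every maximal ideal `𝔫`.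
-/

set_option autoImplicit false
set_option linter.style.haveILetI false
set_option linter.dupNamespace false
universe u

namespace Groth.Agent.H46.IndFS

open MvPolynomial

/-- Weak elementwise form of ind-smoothness: every polynomial relation among elements of `S`
already holds in a formally smooth `R`-algebra mapping to `S`. -/
def IndFS (R S : Type u) [CommRing R] [CommRing S] [Algebra R S] : Prop :=
  ∀ y : MvPolynomial S R, aeval (fun s : S => s) y = 0 →
    ∃ (A₁ : Type u) (_ : CommRing A₁) (_ : Algebra R A₁) (_ : Algebra.FormallySmooth R A₁)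
      (u : A₁ →ₐ[R] S) (α : S → A₁), (∀ s ∈ y.vars, u (α s) = s) ∧ aeval α y = 0

variable {R S : Type u} [CommRing R] [CommRing S] [Algebra R S]

/-- Lifting along a surjection onto `S/𝔫^(t+1)` whose kernel is killed by the preimage of `𝔫`. -/
theorem exists_lift_of_indFS (hS : IndFS R S) (𝔫 : Ideal S) [h𝔫 : 𝔫.IsMaximal] (t : ℕ)
    (A' : Type u) [CommRing A'] [Algebra R A'] (p : A' →ₐ[R] S ⧸ 𝔫 ^ (t + 1))
    (hp : Function.Surjective p)
    (htors : ∀ a x, p a ∈ 𝔫.map (Ideal.Quotient.mk (𝔫 ^ (t + 1))) → p x = 0 → a * x = 0) :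
    ∃ χ : S →ₐ[R] A', p.comp χ = Ideal.Quotient.mkₐ R (𝔫 ^ (t + 1)) := by
  classical
  set mk := Ideal.Quotient.mk (𝔫 ^ (t + 1)) with hmk
  have hmks : Function.Surjective mk := Ideal.Quotient.mk_surjective
  -- the polynomial presentation
  let π : MvPolynomial S R →ₐ[R] S := aeval (fun s : S => s)
  have hπ : Function.Surjective π := fun s => ⟨X s, by simp [π]⟩
  choose σ hσ using fun s : S => hp (mk s)
  let φ : MvPolynomial S R →ₐ[R] A' := aeval σ
  have hφ : ∀ x, p (φ x) = mk (π x) := by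
    intro x
    have : p.comp φ = (Ideal.Quotient.mkₐ R (𝔫 ^ (t + 1))).comp π := by
      apply MvPolynomial.algHom_ext
      intro s
      simp [φ, π, hσ, hmk]
    exact congrArg (fun g : MvPolynomial S R →ₐ[R] S ⧸ 𝔫 ^ (t + 1) => g x) this
  letI : Algebra (MvPolynomial S R) A' := φ.toRingHom.toAlgebra
  haveI : IsScalarTower R (MvPolynomial S R) A' :=
    IsScalarTower.of_algebraMap_eq fun r => (φ.commutes r).symm
  have halg : ∀ x, algebraMap (MvPolynomial S R) A' x = φ x := fun _ => rfl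
  -- ideals
  set 𝔫T : Ideal (S ⧸ 𝔫 ^ (t + 1)) := 𝔫.map mk with h𝔫T
  have h𝔫Tmax : 𝔫T.IsMaximal := by
    rcases Ideal.map_eq_top_or_isMaximal_of_surjective mk hmks h𝔫 with h | h
    · exfalso
      have h1 : Ideal.comap mk (Ideal.map mk 𝔫) = ⊤ := by rw [h, Ideal.comap_top]
      rw [Ideal.comap_map_of_surjective mk hmks] at h1
      have h2 : Ideal.comap mk ⊥ ≤ 𝔫 := by
        intro x hx
        rw [Ideal.mem_comap, Ideal.mem_bot, hmk, Ideal.Quotient.eq_zero_iff_mem] at hx
        exact Ideal.pow_le_self (Nat.succ_ne_zero t) hx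
      rw [sup_eq_left.mpr h2] at h1
      exact h𝔫.ne_top h1
    · exact h
  set 𝔞 : Ideal A' := 𝔫T.comap p.toRingHom with h𝔞
  haveI h𝔞max : 𝔞.IsMaximal := Ideal.comap_isMaximal_of_surjective p.toRingHom hp
  set N : Ideal A' := RingHom.ker p.toRingHom with hN
  have hN𝔞 : N ≤ 𝔞 := by
    intro x hx
    rw [h𝔞, Ideal.mem_comap]
    have : p x = 0 := hx
    change p x ∈ 𝔫T
    rw [this]; exact zero_mem _
  have htors' : ∀ a ∈ 𝔞, ∀ n ∈ N, a * n = 0 := fun a ha n hn => htors a n ha hn
  have hN2 : N ^ 2 = ⊥ := by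
    rw [eq_bot_iff, pow_two, Ideal.mul_le]
    intro a ha b hb
    rw [Ideal.mem_bot]
    exact htors' a (hN𝔞 ha) b hb
  have hsurj : Function.Surjective (algebraMap (MvPolynomial S R) (A' ⧸ 𝔞)) := by
    intro b
    obtain ⟨a, rfl⟩ := Ideal.Quotient.mk_surjective b
    obtain ⟨s, hs⟩ := hmks (p a)
    refine ⟨X s, ?_⟩
    change Ideal.Quotient.mk 𝔞 (φ (X s)) = Ideal.Quotient.mk 𝔞 a
    rw [Ideal.Quotient.eq]
    apply hN𝔞
    change p (φ (X s) - a) = 0
    rw [map_sub, hφ, ← hs]
    simp [π]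
  set I : Ideal (MvPolynomial S R) := RingHom.ker π with hI
  have hIN : ∀ x ∈ I, algebraMap (MvPolynomial S R) A' x ∈ N := by
    intro x hx
    change p (φ x) = 0
    rw [hφ]
    have : π x = 0 := hx
    rw [this, map_zero]
  have hC : ∀ y ∈ I, (∀ D' : Derivation R (MvPolynomial S R) N, D' y = 0) →
      algebraMap (MvPolynomial S R) A' y = 0 := by
    intro y hy hD
    have hy0 : aeval (fun s : S => s) y = 0 := hy
    obtain ⟨A₁, _, _, _, u, α, hα, hαy⟩ := hS y hy0
    have hnil : IsNilpotent (RingHom.ker (p : A' →+* S ⧸ 𝔫 ^ (t + 1))) := ⟨2, hN2⟩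
    let χ₁ : A₁ →ₐ[R] A' := Algebra.FormallySmooth.liftOfSurjective
      ((Ideal.Quotient.mkₐ R (𝔫 ^ (t + 1))).comp u) p hp hnil
    have hχ₁ : ∀ a, p (χ₁ a) = mk (u a) := fun a =>
      Algebra.FormallySmooth.liftOfSurjective_apply _ p hp hnil a
    let σ' : S → A' := fun s => if s ∈ y.vars then χ₁ (α s) else σ s
    have hτmem : ∀ s, σ' s - σ s ∈ N := by
      intro s
      change p (σ' s - σ s) = 0
      by_cases hs : s ∈ y.vars
      · simp only [σ', hs, if_true, map_sub, hχ₁, hα s hs, hσ, sub_self]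
      · simp only [σ', hs, if_false, sub_self, map_zero]
    let τ : S → N := fun s => ⟨σ' s - σ s, hτmem s⟩
    let Dτ : Derivation R (MvPolynomial S R) N := mkDerivation R τ
    let φτ : MvPolynomial S R →ₐ[R] A' := liftOfDerivationToSquareZero N hN2 Dτ
    have h1 : φτ = aeval σ' := by
      apply MvPolynomial.algHom_ext
      intro s
      change ((Dτ (X s) : N) : A') + algebraMap (MvPolynomial S R) A' (X s) = aeval σ' (X s)
      have e1 : φ (X s) = σ s := aeval_X σ s
      have e2 : Dτ (X s) = τ s := mkDerivation_X R τ s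
      rw [halg, e1, e2, aeval_X]
      change σ' s - σ s + σ s = σ' s
      ring
    have h2 : aeval σ' y = 0 := by
      have e1 : aeval σ' y = aeval (fun s => χ₁ (α s)) y := by
        have := hom_congr_vars (R := R) (S := A') (σ := S)
          (f₁ := (aeval σ' : MvPolynomial S R →ₐ[R] A').toRingHom)
          (f₂ := (aeval (fun s => χ₁ (α s)) : MvPolynomial S R →ₐ[R] A').toRingHom)
          (p₁ := y) (p₂ := y) (by ext r; simp) (by intro s hs _; simp [σ', hs]) rfl
        exact this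
      rw [e1]
      have e2 : aeval (fun s => χ₁ (α s)) y = χ₁ (aeval α y) :=
        (comp_aeval_apply (f := α) χ₁ y).symm
      rw [e2, hαy, map_zero]
    have h3 : φτ y = ((Dτ y : N) : A') + algebraMap (MvPolynomial S R) A' y := rfl
    rw [h1, h2, hD Dτ] at h3
    simpa using h3.symm
  obtain ⟨D, hD⟩ := lemmaL N 𝔞 hN𝔞 htors' hsurj I hIN hC
  let φ' : MvPolynomial S R →ₐ[R] A' := liftOfDerivationToSquareZero N hN2 D
  have hφ' : ∀ x, φ' x = ((D x : N) : A') + φ x := fun _ => rfl
  have hker : ∀ x ∈ RingHom.ker π, φ' x = 0 := by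
    intro x hx
    rw [hφ', hD x hx, halg]
    ring
  let e := Ideal.quotientKerAlgEquivOfSurjective hπ
  let χ : S →ₐ[R] A' := (Ideal.Quotient.liftₐ (RingHom.ker π) φ' hker).comp e.symm.toAlgHom
  have hχ : ∀ z, χ (π z) = φ' z := by
    intro z
    have : e.symm (π z) = Ideal.Quotient.mk (RingHom.ker π) z := by
      rw [AlgEquiv.symm_apply_eq]
      rfl
    change Ideal.Quotient.liftₐ (RingHom.ker π) φ' hker (e.symm (π z)) = _
    rw [this]
    rfl
  refine ⟨χ, ?_⟩
  ext s
  obtain ⟨z, rfl⟩ := hπ s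
  change p (χ (π z)) = mk (π z)
  rw [hχ, hφ', map_add, hφ]
  have : p ((D z : N) : A') = 0 := (D z).2
  rw [this, zero_add]

/-- **Ind-formally-smooth algebras are formally smooth for the adic topology of any maximal
ideal.** -/
theorem isAdicFormallySmooth_of_indFS (hS : IndFS R S) (𝔫 : Ideal S) [h𝔫 : 𝔫.IsMaximal] :
    CAlgX.IsAdicFormallySmooth R S 𝔫 := by
  apply Groth.Agent.H46.isAdicFormallySmooth_of_gtl
  intro A _ _ J ψ k hJ hk tors
  have hI : ∀ x ∈ 𝔫 ^ (k + 1), ψ x = 0 := fun x hx =>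
    hk x (Ideal.pow_le_pow_right (Nat.le_succ k) hx)
  obtain ⟨A', _, _, p, q, hp, hpq, hinj⟩ :=
    Groth.Agent.H46.exists_pullback J ψ (𝔫 ^ (k + 1)) hI
  have htors : ∀ a x, p a ∈ 𝔫.map (Ideal.Quotient.mk (𝔫 ^ (k + 1))) → p x = 0 → a * x = 0 := by
    intro a x ha hx
    obtain ⟨s, hsn, hs⟩ := (Ideal.mem_map_iff_of_surjective _ Ideal.Quotient.mk_surjective).mp ha
    have h1 : Ideal.Quotient.mk J (q a) = ψ s := by
      rw [hpq, ← hs]; rfl
    have h2 : q x ∈ J := by
      rw [← Ideal.Quotient.eq_zero_iff_mem, hpq, hx, map_zero]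
    apply hinj
    · rw [map_mul, hx, mul_zero]
    · rw [map_mul]
      exact tors s hsn (q a) h1 (q x) h2
  obtain ⟨χ', hχ'⟩ := exists_lift_of_indFS hS 𝔫 k A' p hp htors
  exact ⟨q.comp χ', Groth.Agent.H46.lift_of_pullback J ψ _ hI p q hpq χ' hχ'⟩

end Groth.Agent.H46.IndFS
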