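import Mathlib

/-!
# Tensor products and direct limits of algebras (`_root_.DirectLimit`)

For a directed system of `R`-algebras `G i` with colimit `Λ = DirectLimit G f` and an `R`-module
`M`: every element of `M ⊗ Λ` comes from some `M ⊗ G i`, and an element of `M ⊗ G i` dying in
`M ⊗ Λ` already dies in some `M ⊗ G j`.  Consequence: `Λ` is flat if all `G i` are.
-/

set_option autoImplicit false
universe u v

namespace Groth.Agent.H46.IndFS

open TensorProduct

variable {R : Type u} [CommRing R] {ι : Type u} [Preorder ι] [IsDirectedOrder ι] [Nonempty ι]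
  (G : ι → Type u) [∀ i, CommRing (G i)] [∀ i, Algebra R (G i)]
  (f : ∀ i j : ι, i ≤ j → (G i →ₐ[R] G j)) [DirectedSystem G (fun i j h => f i j h)]

/-- the canonical linear maps into the direct limit -/
noncomputable abbrev ofL (i : ι) : G i →ₗ[R] DirectLimit G f :=
  (DirectLimit.Algebra.of G f i).toLinearMap

/-- the transition maps as linear maps -/
abbrev fL (i j : ι) (h : i ≤ j) : G i →ₗ[R] G j := (f i j h).toLinearMap

set_option backward.isDefEq.respectTransparency.types false in
theorem ofL_comp_fL (i j : ι) (h : i ≤ j) : ofL G f j ∘ₗ fL G f i j h = ofL G f i := by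
  ext x
  exact DirectLimit.Algebra.of_f (f := f) h x

set_option backward.isDefEq.respectTransparency.types false in
theorem exists_ofL_eq' (x : DirectLimit G f) : ∃ (i : ι) (a : G i), ofL G f i a = x := by
  induction x using DirectLimit.induction with | _ i a
  exact ⟨i, a, rfl⟩

variable (M : Type v) [AddCommGroup M] [Module R M]

theorem lTensor_ofL_fL (i j : ι) (h : i ≤ j) (z : M ⊗[R] G i) :
    (ofL G f j).lTensor M ((fL G f i j h).lTensor M z) = (ofL G f i).lTensor M z := by
  rw [← LinearMap.comp_apply, ← LinearMap.lTensor_comp, ofL_comp_fL]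

/-- (a): every element of `M ⊗ Λ` comes from a finite stage. -/
theorem exists_lTensor_ofL_eq (z : M ⊗[R] DirectLimit G f) :
    ∃ (i : ι) (z' : M ⊗[R] G i), (ofL G f i).lTensor M z' = z := by
  induction z using TensorProduct.induction_on with
  | zero => exact ⟨Classical.arbitrary ι, 0, map_zero _⟩
  | tmul m x =>
    obtain ⟨i, x, rfl⟩ := exists_ofL_eq' G f x
    exact ⟨i, m ⊗ₜ x, rfl⟩
  | add a b ha hb =>
    obtain ⟨i, a', rfl⟩ := ha
    obtain ⟨j, b', rfl⟩ := hb
    obtain ⟨k, hik, hjk⟩ := exists_ge_ge i j
    refine ⟨k, (fL G f i k hik).lTensor M a' + (fL G f j k hjk).lTensor M b', ?_⟩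
    rw [map_add, lTensor_ofL_fL, lTensor_ofL_fL]

/-- (a) for finitely many elements. -/
theorem exists_forall_lTensor_ofL_eq {σ : Type*} (T : Finset σ) (g : σ → M ⊗[R] DirectLimit G f) :
    ∃ i : ι, ∀ s ∈ T, ∃ z' : M ⊗[R] G i, (ofL G f i).lTensor M z' = g s := by
  classical
  induction T using Finset.induction_on with
  | empty => exact ⟨Classical.arbitrary ι, by simp⟩
  | insert a T _ ih =>
    obtain ⟨i, hi⟩ := ih
    obtain ⟨j, z, hz⟩ := exists_lTensor_ofL_eq G f M (g a)
    obtain ⟨k, hik, hjk⟩ := exists_ge_ge i j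
    refine ⟨k, fun s hs => ?_⟩
    rcases Finset.mem_insert.mp hs with rfl | hs
    · exact ⟨(fL G f j k hjk).lTensor M z, by rw [lTensor_ofL_fL, hz]⟩
    · obtain ⟨z', hz'⟩ := hi s hs
      exact ⟨(fL G f i k hik).lTensor M z', by rw [lTensor_ofL_fL, hz']⟩

instance directedSystem_fL : DirectedSystem G (fun i j h => fL G f i j h) where
  map_self i x := DirectedSystem.map_self (f := fun i j h => f i j h) x
  map_map k j i hij hjk x := DirectedSystem.map_map (f := fun i j h => f i j h) hij hjk x

set_option backward.isDefEq.respectTransparency.types false in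
theorem ofL_fL (i j : ι) (h : i ≤ j) (x : G i) : ofL G f j (fL G f i j h x) = ofL G f i x :=
  DirectLimit.Algebra.of_f (f := f) h x

set_option backward.isDefEq.respectTransparency.types false in
theorem ofL_eq_zero (i : ι) (a : G i) (h : ofL G f i a = 0) :
    ∃ (j : ι) (hij : i ≤ j), fL G f i j hij a = 0 := by
  have h0 : (⟦⟨i, a⟩⟧ : DirectLimit G f) = ⟦⟨i, 0⟩⟧ := by
    have : ofL G f i a = ofL G f i 0 := by rw [h, map_zero]
    exact this
  obtain ⟨j, hij, _, hj⟩ := Quotient.exact h0
  refine ⟨j, hij, ?_⟩
  change f i j hij a = f i j hij 0 at hj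
  rw [map_zero] at hj
  exact hj

set_option backward.isDefEq.respectTransparency.types false in
theorem exists_ofL_eq (x : DirectLimit G f) : ∃ (i : ι) (a : G i), ofL G f i a = x := by
  induction x using DirectLimit.induction with | _ i a
  exact ⟨i, a, rfl⟩

/-- The comparison map between the two constructions of the direct limit. -/
noncomputable def cmpHom [DecidableEq ι] :
    Module.DirectLimit G (fL G f) →ₗ[R] DirectLimit G f :=
  Module.DirectLimit.lift R ι G (fL G f) (fun i => ofL G f i) (ofL_fL G f)

theorem cmpHom_of [DecidableEq ι] (i : ι) (a : G i) :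
    cmpHom G f (Module.DirectLimit.of R ι G (fL G f) i a) = ofL G f i a :=
  Module.DirectLimit.lift_of _ _ _

theorem cmpHom_bijective [DecidableEq ι] : Function.Bijective (cmpHom G f) := by
  constructor
  · rw [← LinearMap.ker_eq_bot, eq_bot_iff]
    intro x hx
    rw [LinearMap.mem_ker] at hx
    obtain ⟨i, a, rfl⟩ := Module.DirectLimit.exists_of x
    rw [cmpHom_of] at hx
    obtain ⟨j, hij, hj⟩ := ofL_eq_zero G f i a hx
    rw [Submodule.mem_bot]
    have e1 : Module.DirectLimit.of R ι G (fL G f) i a =
        Module.DirectLimit.of R ι G (fL G f) j (fL G f i j hij a) :=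
      (Module.DirectLimit.of_f).symm
    rw [e1, hj, map_zero]
  · intro x
    obtain ⟨i, a, rfl⟩ := exists_ofL_eq G f x
    exact ⟨Module.DirectLimit.of R ι G (fL G f) i a, cmpHom_of G f i a⟩

/-- The comparison of the two constructions of the direct limit, as a linear equivalence. -/
noncomputable def cmp [DecidableEq ι] :
    Module.DirectLimit G (fL G f) ≃ₗ[R] DirectLimit G f :=
  LinearEquiv.ofBijective (cmpHom G f) (cmpHom_bijective G f)

theorem cmp_of [DecidableEq ι] (i : ι) (a : G i) :
    cmp G f (Module.DirectLimit.of R ι G (fL G f) i a) = ofL G f i a :=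
  cmpHom_of G f i a

/-- (b): an element of `M ⊗ G i` dying in `M ⊗ Λ` dies at a finite stage. -/
theorem exists_lTensor_fL_eq_zero (i : ι) (z : M ⊗[R] G i)
    (hz : (ofL G f i).lTensor M z = 0) :
    ∃ (j : ι) (h : i ≤ j), (fL G f i j h).lTensor M z = 0 := by
  classical
  have h1 : (cmp G f).toLinearMap ∘ₗ Module.DirectLimit.of R ι G (fL G f) i = ofL G f i := by
    ext a
    exact cmp_of G f i a
  have h2 : (Module.DirectLimit.of R ι G (fL G f) i).lTensor M z = 0 := by
    have : ((cmp G f).lTensor M) ((Module.DirectLimit.of R ι G (fL G f) i).lTensor M z) = 0 := by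
      change ((cmp G f).toLinearMap.lTensor M)
        ((Module.DirectLimit.of R ι G (fL G f) i).lTensor M z) = 0
      rw [← LinearMap.comp_apply, ← LinearMap.lTensor_comp, h1, hz]
    exact (LinearEquiv.map_eq_zero_iff _).mp this
  have h3 : ∀ w : M ⊗[R] G i,
      TensorProduct.directLimitRight (fL G f) M
        ((Module.DirectLimit.of R ι G (fL G f) i).lTensor M w) =
      Module.DirectLimit.of R ι (fun i => M ⊗[R] G i)
        (fun i j h => (fL G f i j h).lTensor M) i w := by
    intro w
    induction w using TensorProduct.induction_on with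
    | zero => simp
    | tmul m a => simp
    | add a b ha hb => rw [map_add, map_add, ha, hb, map_add]
  have h4 := h3 z
  rw [h2, map_zero] at h4
  exact Module.DirectLimit.of.zero_exact h4.symm

/-- A direct limit of flat algebras is flat. -/
theorem flat_directLimit (hfl : ∀ i, Module.Flat R (G i)) : Module.Flat R (DirectLimit G f) := by
  rw [Module.Flat.iff_rTensor_preserves_injective_linearMap]
  intro N N' _ _ _ _ g hg
  rw [← LinearMap.ker_eq_bot, eq_bot_iff]
  intro z hz
  rw [LinearMap.mem_ker] at hz
  rw [Submodule.mem_bot]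
  obtain ⟨i, z', rfl⟩ := exists_lTensor_ofL_eq G f N z
  have h1 : (ofL G f i).lTensor N' (g.rTensor (G i) z') = 0 := by
    rw [← LinearMap.comp_apply, LinearMap.lTensor_comp_rTensor, ← LinearMap.rTensor_comp_lTensor,
      LinearMap.comp_apply]
    exact hz
  obtain ⟨j, hij, hj⟩ := exists_lTensor_fL_eq_zero G f N' i _ h1
  have h2 : g.rTensor (G j) ((fL G f i j hij).lTensor N z') = 0 := by
    rw [← LinearMap.comp_apply, LinearMap.rTensor_comp_lTensor, ← LinearMap.lTensor_comp_rTensor,
      LinearMap.comp_apply]
    exact hj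
  have h3 : (fL G f i j hij).lTensor N z' = 0 := by
    have := Module.Flat.rTensor_preserves_injective_linearMap (M := G j) g hg
    apply this
    rw [h2, map_zero]
  rw [← lTensor_ofL_fL G f N i j hij, h3, map_zero]

end Groth.Agent.H46.IndFS
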