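import Mathlib
import Groth.Agent.H46.IndFS.DirLim
import Groth.Agent.H46.IndFS.AdicSmooth

/-!
# Base changes of direct limits of formally smooth algebras are ind-formally-smooth
-/

set_option autoImplicit false
universe u

namespace Groth.Agent.H46.IndFS

open TensorProduct MvPolynomial

variable {R : Type u} [CommRing R] {ι : Type u} [Preorder ι] [IsDirectedOrder ι] [Nonempty ι]
  (G : ι → Type u) [∀ i, CommRing (G i)] [∀ i, Algebra R (G i)]
  (f : ∀ i j : ι, i ≤ j → (G i →ₐ[R] G j)) [DirectedSystem G (fun i j h => f i j h)]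
  (K : Type u) [CommRing K] [Algebra R K]

/-- the base changed canonical maps -/
noncomputable abbrev uA (i : ι) : K ⊗[R] G i →ₐ[K] K ⊗[R] DirectLimit G f :=
  Algebra.TensorProduct.map (AlgHom.id K K) (DirectLimit.Algebra.of G f i)

/-- the base changed transition maps -/
noncomputable abbrev tA (i j : ι) (h : i ≤ j) : K ⊗[R] G i →ₐ[K] K ⊗[R] G j :=
  Algebra.TensorProduct.map (AlgHom.id K K) (f i j h)

theorem uA_apply (i : ι) (z : K ⊗[R] G i) : uA G f K i z = (ofL G f i).lTensor K z := by
  induction z using TensorProduct.induction_on with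
  | zero => simp
  | tmul a b => rfl
  | add a b ha hb => rw [map_add, map_add, ha, hb]

theorem tA_apply (i j : ι) (h : i ≤ j) (z : K ⊗[R] G i) :
    tA G f K i j h z = (fL G f i j h).lTensor K z := by
  induction z using TensorProduct.induction_on with
  | zero => simp
  | tmul a b => rfl
  | add a b ha hb => rw [map_add, map_add, ha, hb]

theorem uA_tA (i j : ι) (h : i ≤ j) (z : K ⊗[R] G i) :
    uA G f K j (tA G f K i j h z) = uA G f K i z := by
  rw [uA_apply, tA_apply, uA_apply, lTensor_ofL_fL]

/-- **Base changes of direct limits of formally smooth algebras are ind-formally-smooth.** -/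
theorem indFS_tensor_directLimit (hs : ∀ i, Algebra.FormallySmooth R (G i)) :
    IndFS K (K ⊗[R] DirectLimit G f) := by
  classical
  intro y hy
  obtain ⟨i, hi⟩ := exists_forall_lTensor_ofL_eq G f K y.vars (fun s => s)
  let α₀ : K ⊗[R] DirectLimit G f → K ⊗[R] G i := fun s =>
    if h : s ∈ y.vars then Classical.choose (hi s h) else 0
  have hα₀ : ∀ s ∈ y.vars, uA G f K i (α₀ s) = s := by
    intro s hs
    simp only [α₀, hs, dif_pos]
    rw [uA_apply]
    exact Classical.choose_spec (hi s hs)
  set w : K ⊗[R] G i := aeval α₀ y with hw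
  have hw0 : uA G f K i w = 0 := by
    rw [hw, comp_aeval_apply (f := α₀) (uA G f K i) y, ← hy]
    have := hom_congr_vars (R := K) (S := K ⊗[R] DirectLimit G f) (σ := K ⊗[R] DirectLimit G f)
      (f₁ := (aeval (fun s => uA G f K i (α₀ s)) :
        MvPolynomial (K ⊗[R] DirectLimit G f) K →ₐ[K] K ⊗[R] DirectLimit G f).toRingHom)
      (f₂ := (aeval (fun s : K ⊗[R] DirectLimit G f => s) :
        MvPolynomial (K ⊗[R] DirectLimit G f) K →ₐ[K] K ⊗[R] DirectLimit G f).toRingHom)
      (p₁ := y) (p₂ := y) (by ext r; simp) (by intro s hs _; simp [hα₀ s hs]) rfl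
    exact this
  rw [uA_apply] at hw0
  obtain ⟨j, hij, hj⟩ := exists_lTensor_fL_eq_zero G f K i w hw0
  rw [← tA_apply] at hj
  haveI := hs j
  refine ⟨K ⊗[R] G j, inferInstance, inferInstance, inferInstance, uA G f K j,
    fun s => tA G f K i j hij (α₀ s), ?_, ?_⟩
  · intro s hs
    rw [uA_tA, hα₀ s hs]
  · rw [← comp_aeval_apply (f := α₀) (tA G f K i j hij) y]
    exact hj

end Groth.Agent.H46.IndFS
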