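import Mathlib
import Groth.Prelude.Def_Found
import Groth.Agent.H46.IndFS.BaseChange
import Groth.Agent.H96.GeomRegAdic

/-!
# A direct limit of smooth algebras with Noetherian fibres is a regular ring map
-/

set_option autoImplicit false
set_option linter.style.haveILetI false
universe u

namespace Groth.Agent.H46.IndFS

open TensorProduct

/-- A Noetherian ind-formally-smooth algebra over a field is a regular ring. -/
theorem isRegularRing_of_indFS (k B : Type u) [Field k] [CommRing B] [Algebra k B]
    [IsNoetherianRing B] (h : IndFS k B) : IsRegularRing B := by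
  apply Groth.Agent.H29.RegCompl.isRegularRing_of_maximal
  intro n hn
  have h1 := isAdicFormallySmooth_of_indFS h n
  have h2 := Groth.Agent.H96.AdicSmoothOps.localization (T := Localization.AtPrime n)
    n.primeCompl n h1
  rw [Localization.AtPrime.map_eq_maximalIdeal] at h2
  exact Groth.Agent.H96.GeomRegAdic.regular_of_adic_field k (Localization.AtPrime n) h2

variable (R : Type u) [CommRing R] {ι : Type u} [Preorder ι] [IsDirectedOrder ι] [Nonempty ι]
  (G : ι → Type u) [∀ i, CommRing (G i)] [∀ i, Algebra R (G i)]
  (f : ∀ i j : ι, i ≤ j → (G i →ₐ[R] G j)) [DirectedSystem G (fun i j h => f i j h)]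

/-- For a field `K` over `R`, the base change `K ⊗ Λ` of a direct limit of formally smooth
algebras is regular as soon as it is Noetherian. -/
theorem isRegularRing_tensor_directLimit (hs : ∀ i, Algebra.FormallySmooth R (G i))
    (K : Type u) [Field K] [Algebra R K] [IsNoetherianRing (K ⊗[R] DirectLimit G f)] :
    IsRegularRing (K ⊗[R] DirectLimit G f) :=
  isRegularRing_of_indFS K _ (indFS_tensor_directLimit G f K hs)

/-- **S9308**: a direct limit of smooth `R`-algebras all of whose fibres are Noetherian is a
regular ring map. -/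
theorem isRegularHom_directLimit (hs : ∀ i, Algebra.Smooth R (G i))
    (hN : ∀ (p : Ideal R) [p.IsPrime], IsNoetherianRing (p.Fiber (DirectLimit G f))) :
    CAlg.IsRegularHom R (DirectLimit G f) := by
  refine ⟨flat_directLimit G f fun i => ?_, ?_⟩
  · haveI := hs i
    infer_instance
  intro p hp
  refine ⟨hN p, ?_⟩
  intro k' _ _ hfin
  haveI := hfin
  haveI := hN p
  letI : Algebra R k' := ((algebraMap p.ResidueField k').comp (algebraMap R p.ResidueField)).toAlgebra
  haveI : IsScalarTower R p.ResidueField k' := IsScalarTower.of_algebraMap_eq fun _ => rfl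
  -- Noetherianity of `k' ⊗ F`
  haveI h1 : IsNoetherianRing ((p.Fiber (DirectLimit G f)) ⊗[p.ResidueField] k') :=
    IsNoetherianRing.of_finite (p.Fiber (DirectLimit G f))
      ((p.Fiber (DirectLimit G f)) ⊗[p.ResidueField] k')
  haveI h2 : IsNoetherianRing (k' ⊗[p.ResidueField] (p.Fiber (DirectLimit G f))) :=
    isNoetherianRing_of_ringEquiv _
      (Algebra.TensorProduct.comm p.ResidueField (p.Fiber (DirectLimit G f)) k').toRingEquiv
  let e : k' ⊗[p.ResidueField] (p.Fiber (DirectLimit G f)) ≃ₐ[p.ResidueField]
      k' ⊗[R] DirectLimit G f :=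
    Algebra.TensorProduct.cancelBaseChange R p.ResidueField p.ResidueField k' (DirectLimit G f)
  haveI h3 : IsNoetherianRing (k' ⊗[R] DirectLimit G f) :=
    isNoetherianRing_of_ringEquiv _ e.toRingEquiv
  haveI h4 : IsRegularRing (k' ⊗[R] DirectLimit G f) :=
    isRegularRing_tensor_directLimit R G f (fun i => (hs i).formallySmooth) k'
  exact IsRegularRing.of_ringEquiv e.symm.toRingEquiv

end Groth.Agent.H46.IndFS
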